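import Mathlib

/-!
Weighted homogeneous ideals of polynomial rings and the graded pieces of their quotients.
-/

set_option autoImplicit false
universe u
open MvPolynomial

namespace Groth.Agent.GrCI

variable {K : Type u} [CommRing K] {k : ℕ} (δ : Fin k → ℕ)

/-- An ideal closed under weighted homogeneous components. -/
def Hom (J : Ideal (MvPolynomial (Fin k) K)) : Prop :=
  ∀ x ∈ J, ∀ u : ℕ, weightedHomogeneousComponent δ u x ∈ J

/-- The degree `u` piece of the quotient by `J`. -/
noncomputable def V (J : Ideal (MvPolynomial (Fin k) K)) (u : ℕ) :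
    Submodule K (MvPolynomial (Fin k) K ⧸ J) :=
  Submodule.map (Ideal.Quotient.mkₐ K J).toLinearMap (weightedHomogeneousSubmodule K δ u)

variable {δ}

theorem comp_mul {g : MvPolynomial (Fin k) K} {e : ℕ} (hg : IsWeightedHomogeneous δ g e)
    (s : MvPolynomial (Fin k) K) (u : ℕ) :
    weightedHomogeneousComponent δ u (g * s) =
      if e ≤ u then g * weightedHomogeneousComponent δ (u - e) s else 0 := by
  induction s using MvPolynomial.induction_on' with
  | monomial d r =>
    have hm : IsWeightedHomogeneous δ (monomial d r) (Finsupp.weight δ d) :=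
      isWeightedHomogeneous_monomial δ d r rfl
    rw [weightedHomogeneousComponent_of_mem (hg.mul hm)]
    rcases le_or_gt e u with h | h
    · rw [if_pos h, weightedHomogeneousComponent_of_mem hm]
      split_ifs with h1 h2 h2
      · rfl
      · exact absurd (by omega) h2
      · exact absurd (by omega) h1
      · rw [mul_zero]
    · rw [if_neg (not_le.mpr h), if_neg (by omega)]
  | add p q hp hq =>
    rw [mul_add, map_add, hp, hq, map_add]
    split_ifs <;> simp [mul_add]

theorem hom_span {ι : Type*} {g : ι → MvPolynomial (Fin k) K} {e : ι → ℕ}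
    (hg : ∀ i, IsWeightedHomogeneous δ (g i) (e i)) (s : Set ι) : Hom δ (Ideal.span (g '' s)) := by
  intro x hx u
  induction hx using Submodule.span_induction generalizing u with
  | mem x hx =>
    obtain ⟨i, hi, rfl⟩ := hx
    rw [weightedHomogeneousComponent_of_mem (hg i)]
    split_ifs
    · exact Ideal.subset_span ⟨i, hi, rfl⟩
    · exact Ideal.zero_mem _
  | zero => rw [map_zero]; exact Ideal.zero_mem _
  | add x y _ _ hx hy => rw [map_add]; exact add_mem (hx u) (hy u)
  | smul a x _ hx =>
    rw [smul_eq_mul]
    induction a using MvPolynomial.induction_on' with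
    | monomial d r =>
      rw [comp_mul (isWeightedHomogeneous_monomial δ d r rfl)]
      split_ifs
      · exact Ideal.mul_mem_left _ _ (hx _)
      · exact Ideal.zero_mem _
    | add p q hp hq => rw [add_mul, map_add]; exact add_mem hp hq

theorem mem_V {J : Ideal (MvPolynomial (Fin k) K)} {u : ℕ} {z : MvPolynomial (Fin k) K ⧸ J} :
    z ∈ V δ J u ↔ ∃ p, IsWeightedHomogeneous δ p u ∧ Ideal.Quotient.mk J p = z :=
  Iff.rfl

theorem mk_mem_V {J : Ideal (MvPolynomial (Fin k) K)} (hJ : Hom δ J) {u : ℕ}
    {p : MvPolynomial (Fin k) K} (h : Ideal.Quotient.mk J p ∈ V δ J u) :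
    p - weightedHomogeneousComponent δ u p ∈ J := by
  obtain ⟨q, hq, hqp⟩ := mem_V.mp h
  have h1 : q - p ∈ J := Ideal.Quotient.eq.mp hqp
  have h2 := hJ _ h1 u
  rw [map_sub, weightedHomogeneousComponent_eq_self hq] at h2
  have := sub_mem h2 h1
  convert this using 1
  ring

/-- The pieces span the quotient and are independent. -/
theorem isInternal {J : Ideal (MvPolynomial (Fin k) K)} (hJ : Hom δ J) :
    DirectSum.IsInternal (V δ J) := by
  classical
  rw [DirectSum.isInternal_submodule_iff_iSupIndep_and_iSup_eq_top]
  constructor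
  · intro u
    rw [Submodule.disjoint_def]
    intro z hz hz'
    obtain ⟨p, hp, rfl⟩ := mem_V.mp hz
    have key : ∀ z ∈ ⨆ (j : ℕ) (_ : j ≠ u), V δ J j, ∀ q, Ideal.Quotient.mk J q = z →
        weightedHomogeneousComponent δ u q ∈ J := by
      intro z hz
      induction hz using Submodule.iSup_induction' with
      | mem j z hz =>
        by_cases hj : j = u
        · simp only [hj, ne_eq, not_true, iSup_false, Submodule.mem_bot] at hz
          intro q hq
          exact hJ _ (Ideal.Quotient.eq_zero_iff_mem.mp (hq.trans hz)) u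
        · simp only [hj, ne_eq, not_false_iff, iSup_true] at hz
          intro q hq
          subst hq
          have h1 := hJ _ (mk_mem_V hJ hz) u
          rwa [map_sub, weightedHomogeneousComponent_of_mem (weightedHomogeneousComponent_mem δ q j),
            if_neg (Ne.symm hj), sub_zero] at h1
      | zero => exact fun q hq => hJ _ (Ideal.Quotient.eq_zero_iff_mem.mp hq) u
      | add x y _ _ hx hy =>
        intro q hq
        obtain ⟨a, rfl⟩ := Ideal.Quotient.mk_surjective x
        have := hy (q - a) (by rw [map_sub, hq]; ring)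
        have h2 := add_mem (hx a rfl) this
        rwa [← map_add, add_sub_cancel] at h2
    have := key _ hz' p rfl
    rw [weightedHomogeneousComponent_eq_self hp] at this
    exact Ideal.Quotient.eq_zero_iff_mem.mpr this
  · rw [eq_top_iff]
    rintro z -
    obtain ⟨p, rfl⟩ := Ideal.Quotient.mk_surjective z
    induction p using MvPolynomial.induction_on' with
    | monomial d r =>
      exact Submodule.mem_iSup_of_mem (Finsupp.weight δ d)
        (mem_V.mpr ⟨_, isWeightedHomogeneous_monomial δ d r rfl, rfl⟩)
    | add p q hp hq => rw [map_add]; exact add_mem hp hq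

theorem fg_V (hδ : ∀ i, 0 < δ i) (J : Ideal (MvPolynomial (Fin k) K)) (u : ℕ) : (V δ J u).FG :=
  (weightedHomogeneousSubmodule_fg K δ (fun i => (hδ i).ne') u).map _

/-- Regularity of a sequence in terms of the ideals of its initial segments. -/
theorem isWeaklyRegular_iff {R : Type*} [CommRing R] {n : ℕ} (g : Fin n → R) :
    RingTheory.Sequence.IsWeaklyRegular R (List.ofFn g) ↔
      ∀ (i : Fin n) (x : R), g i * x ∈ Ideal.span (g '' {j | j.val < i.val}) →
        x ∈ Ideal.span (g '' {j | j.val < i.val}) := by
  rw [RingTheory.Sequence.isWeaklyRegular_iff_Fin]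
  have hI : ∀ i : ℕ, (Ideal.ofList ((List.ofFn g).take i) • ⊤ : Submodule R R) =
      Ideal.span (g '' {j | j.val < i}) := by
    intro i
    rw [smul_eq_mul, Ideal.mul_top, Ideal.ofList]
    congr 1
    ext x
    simp only [Set.mem_ofPred_eq, List.mem_take_iff_getElem, List.getElem_ofFn, Set.mem_image]
    constructor
    · rintro ⟨j, hj, rfl⟩
      rw [List.length_ofFn] at hj
      exact ⟨⟨j, by omega⟩, (show j < i by omega), rfl⟩
    · rintro ⟨j, hj, rfl⟩
      exact ⟨j, by rw [List.length_ofFn]; omega, rfl⟩
  constructor
  · intro h i x hx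
    have hreg := h ⟨i.val, by simp⟩
    rw [← hI] at hx ⊢
    rw [← Submodule.Quotient.mk_eq_zero]
    refine hreg ?_
    simp only [List.getElem_ofFn, Fin.eta, smul_zero, Fin.getElem_fin]
    rw [← Submodule.Quotient.mk_smul, Submodule.Quotient.mk_eq_zero]
    exact hx
  · intro h i z w hzw
    induction z using Submodule.Quotient.induction_on with
    | _ z =>
      induction w using Submodule.Quotient.induction_on with
      | _ w =>
        simp only [← Submodule.Quotient.mk_smul, Submodule.Quotient.eq, ← smul_sub] at hzw ⊢
        rw [hI] at hzw ⊢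
        simp only [List.getElem_ofFn, Fin.getElem_fin, smul_eq_mul] at hzw
        exact h ⟨i.val, by simpa using i.isLt⟩ _ hzw

theorem image_lt_succ {R : Type*} {n : ℕ} (g : Fin n → R) (i : ℕ) (hi : i < n) :
    g '' {j | j.val < i + 1} = g '' {j | j.val < i} ∪ {g ⟨i, hi⟩} := by
  rw [← Set.image_singleton, ← Set.image_union]
  congr 1
  ext j
  simp [Fin.ext_iff]
  omega

theorem image_lt_length {R : Type*} {n : ℕ} (g : Fin n → R) :
    g '' {j | j.val < n} = Set.range g := by
  rw [show {j : Fin n | j.val < n} = Set.univ from Set.eq_univ_of_forall fun j => j.isLt, Set.image_univ]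

end Groth.Agent.GrCI
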